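import Cfsg.Agent.Lib.UThreeFour.Data

set_option autoImplicit false
set_option maxRecDepth 100000

/-!
Kernel checks of the certificate for `PSU(3,4)`.
-/

namespace CfsgLib.UThreeFour

/-- The fourth power. -/
def q4 (a : K16) : K16 := a * a * (a * a)

/-- The hermitian form. -/
def hb (u v : Fin 3 → K16) : K16 := u 0 * q4 (v 0) + u 1 * q4 (v 1) + u 2 * q4 (v 2)

/-- Matrix times vector, written out. -/
def mv3 (A : Matrix (Fin 3) (Fin 3) K16) (v : Fin 3 → K16) : Fin 3 → K16 :=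
  ![A 0 0 * v 0 + A 0 1 * v 1 + A 0 2 * v 2, A 1 0 * v 0 + A 1 1 * v 1 + A 1 2 * v 2,
    A 2 0 * v 0 + A 2 1 * v 1 + A 2 2 * v 2]

/-- The points. -/
def pt (i : Fin 65) : Fin 3 → K16 := normVec (ptList.getD i.val 0)

/-- The permutation of `matX`. -/
def sx (i : Fin 65) : Fin 65 := Fin.ofNat 65 (imgList.getD i.val 0)

/-- The scalar of `matX`. -/
def scx (i : Fin 65) : K16 := ⟨Fin.ofNat 16 (scalList.getD i.val 0)⟩

/-- The orbit. -/
def orb (i : Fin 65) : Fin 5 := Fin.ofNat 5 (orbList.getD i.val 0)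

/-- The representative. -/
def rep (o : Fin 5) : Fin 65 := Fin.ofNat 65 (repList.getD o.val 0)

/-- The function with vanishing block sums. -/
def fv (i : Fin 65) : ZMod 5 := (sumList.getD i.val 0 : ℕ)

/-- Leading entry one. -/
def Lead (v : Fin 3 → K16) : Prop :=
  v 0 = 1 ∨ (v 0 = 0 ∧ v 1 = 1) ∨ (v 0 = 0 ∧ v 1 = 0 ∧ v 2 = 1)

theorem q4_add : ∀ a b : K16, q4 (a + b) = q4 a + q4 b := by decide +kernel

theorem pt_iso : ∀ i, hb (pt i) (pt i) = 0 := by decide +kernel

theorem pt_lead : ∀ i, Lead (pt i) := by unfold Lead; decide +kernel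

theorem pt_inj : ∀ i j, pt i = pt j → i = j := by decide +kernel

theorem ptList_length : ptList.length = 65 := by decide +kernel

theorem normVec_top : ∀ a b : K16, normVec (16 * a.code.val + b.code.val) = ![1, a, b] := by
  decide +kernel

theorem normVec_mid : ∀ b : K16, normVec (256 + b.code.val) = ![0, 1, b] := by decide +kernel

theorem iso_mem : ∀ k < 273, hb (normVec k) (normVec k) = 0 → k ∈ ptList := by decide +kernel

theorem matX_spec : matX.det = 1 ∧ ∀ j k, (matX 0 j * q4 (matX 0 k) + matX 1 j * q4 (matX 1 k) +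
    matX 2 j * q4 (matX 2 k)) = if j = k then 1 else 0 := by
  rw [Matrix.det_fin_three]; decide +kernel

theorem matA_spec : matA.det = 1 ∧ ∀ j k, (matA 0 j * q4 (matA 0 k) + matA 1 j * q4 (matA 1 k) +
    matA 2 j * q4 (matA 2 k)) = if j = k then 1 else 0 := by
  rw [Matrix.det_fin_three]; decide +kernel

theorem matB_spec : matB.det = 1 ∧ ∀ j k, (matB 0 j * q4 (matB 0 k) + matB 1 j * q4 (matB 1 k) +
    matB 2 j * q4 (matB 2 k)) = if j = k then 1 else 0 := by
  rw [Matrix.det_fin_three]; decide +kernel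

theorem matX_order : matX ^ 13 = 1 ∧ matX ≠ 1 := by decide +kernel

theorem matA_order : matA ^ 10 = 1 ∧ matA ^ 5 ≠ 1 ∧ matA ^ 2 ≠ 1 := by decide +kernel

theorem matB_order : matB ^ 15 = 1 ∧ matB ^ 5 ≠ 1 ∧ matB ^ 3 ≠ 1 := by decide +kernel

theorem img_spec : ∀ i, scx i ≠ 0 ∧ mv3 matX (pt i) 0 = scx i * pt (sx i) 0 ∧
    mv3 matX (pt i) 1 = scx i * pt (sx i) 1 ∧ mv3 matX (pt i) 2 = scx i * pt (sx i) 2 := by
  decide +kernel

theorem orb_spec : ∀ i, sx^[expList.getD i.val 0] (rep (orb i)) = i ∧ sx^[13] i = i := by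
  decide +kernel

theorem sum_spec : ∀ k < 273, hb (normVec k) (normVec k) ≠ 0 →
    ∑ i, (if hb (pt i) (normVec k) = 0 then fv i else 0) = 0 := by
  decide +kernel

theorem fv_ne : ∃ i j, fv i ≠ fv j := by decide +kernel

theorem sel_aniso : ∀ k ∈ selList, k < 273 ∧ hb (normVec k) (normVec k) ≠ 0 := by decide +kernel

/-- The number of points of orbit `o` on block `k`. -/
def cnt (k : ℕ) (o : Fin 5) : ℕ :=
  (Finset.univ.filter fun i => orb i = o ∧ hb (pt i) (normVec k) = 0).card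

theorem cnt_spec : cnt 0 = ![1, 1, 1, 1, 1] ∧ cnt 2 = ![0, 2, 0, 1, 2] ∧
    cnt 3 = ![2, 0, 0, 2, 1] ∧ cnt 4 = ![2, 0, 0, 1, 2] := by decide +kernel

theorem selList_eq : selList = [0, 2, 3, 4] := rfl

theorem separate : ∀ a b c d e : ZMod 5, a + b + c + d + e = 0 → 2 * b + d + 2 * e = 0 →
    2 * a + 2 * d + e = 0 → 2 * a + d + 2 * e = 0 → b = a ∧ c = a ∧ d = a ∧ e = a := by
  decide +kernel

end CfsgLib.UThreeFour
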