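import Mathlib

set_option autoImplicit false

/-!
A model of the field with 16 elements and certificate data for `PSU(3,4)` acting on the 65
isotropic points of its plane: an element of order 13, its action, a function with vanishing
block sums, and elements of orders 10 and 15.
-/

namespace CfsgLib.UThreeFour

/-- The field with 16 elements, by codes. -/
structure K16 where
  /-- The code. -/
  code : Fin 16

namespace K16

instance : DecidableEq K16 := fun a b =>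
  decidable_of_iff (a.code = b.code) ⟨fun h => by cases a; cases b; cases h; rfl, fun h => h ▸ rfl⟩

/-- Codes. -/
def equivFin : K16 ≃ Fin 16 := ⟨code, mk, fun _ => rfl, fun _ => rfl⟩

instance : Fintype K16 := Fintype.ofEquiv _ equivFin.symm

/-- The multiplication table, packed. -/
def mulTab : ℕ := 116196760129267793630862849262464326346044543732748708940920453221664288556434379745879494961270582141731748813355742142288220638766218855867759359510984593843506004200114943278699875244065120512813025380665946106619127097398772031257643617143689515450995722003729973585221105779229319991106539050771048038400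

/-- The inverse table, packed. -/
def invTab : ℕ := 9460475325918865680

/-- Addition. -/
def add' (a b : K16) : K16 := ⟨⟨(a.code.val ^^^ b.code.val) % 16, Nat.mod_lt _ (by norm_num)⟩⟩

/-- Multiplication. -/
def mul' (a b : K16) : K16 :=
  ⟨⟨(mulTab >>> (4 * (16 * a.code.val + b.code.val))) % 16, Nat.mod_lt _ (by norm_num)⟩⟩

instance : Zero K16 := ⟨⟨0⟩⟩
instance : One K16 := ⟨⟨1⟩⟩
instance : Add K16 := ⟨add'⟩
instance : Mul K16 := ⟨mul'⟩
instance : Neg K16 := ⟨id⟩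
instance : Inv K16 :=
  ⟨fun a => ⟨⟨(invTab >>> (4 * a.code.val)) % 16, Nat.mod_lt _ (by norm_num)⟩⟩⟩

theorem add_assoc' : ∀ a b c : K16, a + b + c = a + (b + c) := by decide +kernel
theorem mul_assoc' : ∀ a b c : K16, a * b * c = a * (b * c) := by decide +kernel
theorem left_distrib' : ∀ a b c : K16, a * (b + c) = a * b + a * c := by decide +kernel
theorem zero_add' : ∀ a : K16, 0 + a = a := by decide +kernel
theorem add_comm' : ∀ a b : K16, a + b = b + a := by decide +kernel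
theorem neg_add' : ∀ a : K16, -a + a = 0 := by decide +kernel
theorem mul_comm' : ∀ a b : K16, a * b = b * a := by decide +kernel
theorem one_mul' : ∀ a : K16, 1 * a = a := by decide +kernel
theorem zero_mul' : ∀ a : K16, 0 * a = 0 := by decide +kernel
theorem mul_inv' : ∀ a : K16, a ≠ 0 → a * a⁻¹ = 1 := by decide +kernel

instance : CommRing K16 where
  add_assoc := add_assoc'
  zero_add := zero_add'
  add_zero a := by rw [add_comm', zero_add']
  add_comm := add_comm'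
  neg_add_cancel := neg_add'
  nsmul := nsmulRec
  zsmul := zsmulRec
  left_distrib := left_distrib'
  right_distrib a b c := by rw [mul_comm', left_distrib', mul_comm' a c, mul_comm' b c]
  zero_mul := zero_mul'
  mul_zero a := by rw [mul_comm', zero_mul']
  mul_assoc := mul_assoc'
  one_mul := one_mul'
  mul_one a := by rw [mul_comm', one_mul']
  mul_comm := mul_comm'

instance : Field K16 where
  exists_pair_ne := ⟨0, 1, by decide⟩
  mul_inv_cancel := mul_inv'
  inv_zero := by decide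
  nnqsmul := _
  nnqsmul_def := fun _ _ => rfl
  qsmul := _
  qsmul_def := fun _ _ => rfl

theorem card_eq : Fintype.card K16 = 16 := by
  rw [Fintype.card_congr equivFin, Fintype.card_fin]

end K16

/-- Normalised vectors. -/
def normVec (k : ℕ) : Fin 3 → K16 :=
  if k < 256 then ![1, ⟨Fin.ofNat 16 (k / 16)⟩, ⟨Fin.ofNat 16 k⟩]
  else if k < 272 then ![0, 1, ⟨Fin.ofNat 16 k⟩]
  else ![0, 0, 1]

/-- Indices of the normalised isotropic vectors. -/
def ptList : List ℕ :=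
  [1, 8, 10, 12, 15, 16, 36, 37, 38, 41, 46, 52, 53, 54, 57, 62, 66, 67, 71, 75, 77, 82, 83, 87,
  91, 93, 98, 99, 103, 107, 109, 116, 117, 118, 121, 126, 128, 146, 147, 151, 155, 157, 160, 180, 181, 182, 185, 190,
  192, 212, 213, 214, 217, 222, 226, 227, 231, 235, 237, 240, 257, 264, 266, 268, 271]

/-- An element of order 13. -/
def matX : Matrix (Fin 3) (Fin 3) K16 := !![⟨13⟩, ⟨7⟩, ⟨1⟩; ⟨12⟩, ⟨7⟩, ⟨11⟩; ⟨2⟩, ⟨12⟩, ⟨7⟩]

/-- An element of order 10. -/
def matA : Matrix (Fin 3) (Fin 3) K16 := !![⟨14⟩, ⟨9⟩, ⟨12⟩; ⟨13⟩, ⟨12⟩, ⟨13⟩; ⟨0⟩, ⟨14⟩, ⟨13⟩]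

/-- An element of order 15. -/
def matB : Matrix (Fin 3) (Fin 3) K16 := !![⟨7⟩, ⟨1⟩, ⟨13⟩; ⟨15⟩, ⟨2⟩, ⟨11⟩; ⟨3⟩, ⟨2⟩, ⟨1⟩]

/-- The permutation of the points under `matX`. -/
def imgList : List ℕ :=
  [11, 38, 8, 5, 58, 49, 23, 39, 28, 18, 56, 64, 20, 21, 9, 13, 62, 53, 19, 33, 55, 30, 15, 4,
  16, 50, 45, 47, 43, 44, 46, 0, 57, 31, 12, 25, 61, 54, 10, 60, 48, 3, 7, 36, 22, 52, 63, 2,
  37, 51, 26, 42, 24, 32, 14, 35, 59, 29, 41, 27, 6, 1, 34, 17, 40]

/-- The scalars in `matX`. -/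
def scalList : List ℕ :=
  [12, 5, 7, 1, 2, 10, 7, 6, 5, 10, 13, 15, 1, 2, 13, 10, 6, 1, 5, 9, 15, 7, 6, 2,
  14, 8, 14, 15, 11, 7, 1, 15, 14, 13, 2, 5, 1, 5, 4, 2, 12, 10, 14, 13, 12, 15, 4, 7,
  15, 12, 13, 14, 1, 6, 3, 2, 6, 10, 12, 6, 6, 15, 13, 11, 8]

/-- The orbit of each point. -/
def orbList : List ℕ :=
  [0, 1, 1, 2, 2, 2, 2, 2, 1, 0, 1, 0, 3, 4, 0, 4, 3, 4, 0, 0, 3, 4, 4, 2,
  3, 3, 3, 1, 1, 4, 4, 0, 4, 0, 3, 3, 1, 0, 1, 2, 0, 2, 2, 1, 4, 3, 4, 1,
  0, 2, 3, 2, 3, 4, 0, 3, 1, 4, 2, 1, 2, 1, 3, 4, 0]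

/-- The exponent of each point in its orbit. -/
def expList : List ℕ :=
  [0, 0, 7, 0, 10, 1, 8, 5, 8, 8, 2, 1, 0, 0, 7, 12, 10, 5, 9, 10, 1, 1, 11, 9,
  9, 4, 6, 5, 9, 9, 2, 12, 7, 11, 12, 3, 11, 5, 1, 6, 3, 12, 4, 10, 10, 7, 3, 6,
  4, 2, 5, 3, 8, 6, 6, 2, 3, 8, 11, 4, 7, 12, 11, 4, 2]

/-- The representatives of the orbits. -/
def repList : List ℕ := [0, 1, 3, 12, 13]

/-- A function with vanishing block sums. -/
def sumList : List ℕ :=
  [1, 2, 2, 4, 1, 0, 2, 1, 2, 1, 4, 2, 2, 1, 3, 2, 2, 0, 1, 1, 1, 2, 4, 0,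
  1, 3, 1, 0, 0, 0, 4, 4, 4, 4, 3, 0, 4, 0, 1, 4, 3, 2, 4, 3, 2, 3, 3, 4,
  2, 4, 1, 0, 0, 0, 0, 0, 0, 0, 0, 0, 0, 0, 0, 0, 0]

/-- Four blocks separating the orbits. -/
def selList : List ℕ := [0, 2, 3, 4]

end CfsgLib.UThreeFour
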