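import Cfsg.Prelude.Def_Classical
import Cfsg.Agent.Lib.UThreeFour.Check
import Cfsg.Agent.Lib.Classical.UnitaryRegThree
import Cfsg.Agent.Lib.Classical.UnitaryOrder

set_option autoImplicit false
set_option maxRecDepth 4000

/-!
`SU(3,4)` over the model field, acting on the 65 isotropic points, and a nonzero module over
`ZMod 5` on which every element of order 13 is fixed-point-free.
-/

namespace CfsgLib.UThreeFour

open Matrix Cfsg

/-- The model group. -/
abbrev G : Type := Cfsg.SU 3 K16 4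

theorem hermForm_eq (u v : Fin 3 → K16) : Cfsg.hermForm 3 K16 4 u v = hb u v := by
  simp only [Cfsg.hermForm, Fin.sum_univ_three, hb, q4]
  ring

theorem q4_mul (a b : K16) : q4 (a * b) = q4 a * q4 b := by simp only [q4]; ring

theorem hb_smul_left (c : K16) (u v : Fin 3 → K16) : hb (c • u) v = c * hb u v := by
  simp only [hb, Pi.smul_apply, smul_eq_mul]; ring

theorem hb_smul_right (c : K16) (u v : Fin 3 → K16) : hb u (c • v) = q4 c * hb u v := by
  simp only [hb, Pi.smul_apply, smul_eq_mul, q4_mul]; ring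

theorem hb_mulVec (g : G) (u v : Fin 3 → K16) :
    hb (g.1.1 *ᵥ u) (g.1.1 *ᵥ v) = hb u v := by
  have h := g.2 u v
  rwa [hermForm_eq, hermForm_eq] at h

theorem mulVec_eq (A : Matrix (Fin 3) (Fin 3) K16) (v : Fin 3 → K16) : A *ᵥ v = mv3 A v := by
  funext k
  fin_cases k <;> simp [mv3, Matrix.mulVec, dotProduct, Fin.sum_univ_three]

theorem gram_mem (A : Matrix (Fin 3) (Fin 3) K16)
    (hA : ∀ j k, (A 0 j * q4 (A 0 k) + A 1 j * q4 (A 1 k) + A 2 j * q4 (A 2 k)) =
      if j = k then 1 else 0) (u v : Fin 3 → K16) : hb (A *ᵥ u) (A *ᵥ v) = hb u v := by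
  have e00 := hA 0 0
  have e01 := hA 0 1
  have e02 := hA 0 2
  have e10 := hA 1 0
  have e11 := hA 1 1
  have e12 := hA 1 2
  have e20 := hA 2 0
  have e21 := hA 2 1
  have e22 := hA 2 2
  simp only [Fin.reduceEq, if_true, if_false] at e00 e01 e02 e10 e11 e12 e20 e21 e22
  simp only [mulVec_eq, hb, mv3, Matrix.cons_val_zero, Matrix.cons_val_one, Matrix.cons_val_two,
    Matrix.head_cons, Matrix.tail_cons, q4_add, q4_mul]
  linear_combination u 0 * q4 (v 0) * e00 + u 0 * q4 (v 1) * e01 + u 0 * q4 (v 2) * e02 +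
    u 1 * q4 (v 0) * e10 + u 1 * q4 (v 1) * e11 + u 1 * q4 (v 2) * e12 +
    u 2 * q4 (v 0) * e20 + u 2 * q4 (v 1) * e21 + u 2 * q4 (v 2) * e22

/-- The element of `G` given by a matrix. -/
def mkG (A : Matrix (Fin 3) (Fin 3) K16) (hd : A.det = 1)
    (hA : ∀ j k, (A 0 j * q4 (A 0 k) + A 1 j * q4 (A 1 k) + A 2 j * q4 (A 2 k)) =
      if j = k then 1 else 0) : G :=
  ⟨⟨A, hd⟩, fun u v => by
    rw [hermForm_eq, hermForm_eq]
    exact gram_mem A hA u v⟩

/-- The coercion to matrices. -/
def toMat : G →* Matrix (Fin 3) (Fin 3) K16 where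
  toFun g := g.1.1
  map_one' := rfl
  map_mul' _ _ := rfl

theorem toMat_injective : Function.Injective toMat := fun _ _ h => Subtype.ext (Subtype.ext h)

/-- The element of order 13. -/
def gX : G := mkG matX matX_spec.1 matX_spec.2

theorem orderOf_gX : orderOf gX = 13 := by
  have : Fact (Nat.Prime 13) := ⟨by norm_num⟩
  refine orderOf_eq_prime (toMat_injective ?_) fun h => matX_order.2 ?_
  · rw [map_pow, map_one]; exact matX_order.1
  · exact congrArg toMat h

theorem orderOf_eq_mul {M : Type*} [Monoid M] (g : M) {p q : ℕ} (hp : p.Prime) (hq : q.Prime)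
    (h1 : g ^ (p * q) = 1) (hgp : g ^ p ≠ 1) (hgq : g ^ q ≠ 1) : orderOf g = p * q := by
  refine orderOf_eq_of_pow_and_pow_div_prime (Nat.mul_pos hp.pos hq.pos) h1 fun r hr hrd => ?_
  rcases (Nat.Prime.dvd_mul hr).1 hrd with h | h
  · rw [(Nat.prime_dvd_prime_iff_eq hr hp).1 h, Nat.mul_div_cancel_left _ hp.pos]; exact hgq
  · rw [(Nat.prime_dvd_prime_iff_eq hr hq).1 h, Nat.mul_div_cancel _ hq.pos]; exact hgp

theorem orderOf_mat (g : G) {A : Matrix (Fin 3) (Fin 3) K16} (hg : toMat g = A) {p q : ℕ}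
    (hp : p.Prime) (hq : q.Prime) (h1 : A ^ (p * q) = 1) (hgp : A ^ p ≠ 1) (hgq : A ^ q ≠ 1) :
    orderOf g = p * q :=
  orderOf_eq_mul g hp hq (toMat_injective (by rw [map_pow, hg, h1, map_one]))
    (fun h => hgp (by rw [← hg, ← map_pow, h, map_one]))
    (fun h => hgq (by rw [← hg, ← map_pow, h, map_one]))

theorem exists_orderOf_ten : ∃ g : G, orderOf g = 10 :=
  ⟨_, orderOf_mat (mkG matA matA_spec.1 matA_spec.2) (A := matA) rfl (p := 5) (q := 2)
    Nat.prime_five Nat.prime_two matA_order.1 matA_order.2.1 matA_order.2.2⟩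

theorem exists_orderOf_fifteen : ∃ g : G, orderOf g = 15 :=
  ⟨_, orderOf_mat (mkG matB matB_spec.1 matB_spec.2) (A := matB) rfl (p := 5) (q := 3)
    Nat.prime_five Nat.prime_three matB_order.1 matB_order.2.1 matB_order.2.2⟩

theorem normVec_bot : normVec 272 = ![0, 0, 1] := by decide +kernel

theorem normalise (v : Fin 3 → K16) (hv : v ≠ 0) :
    ∃ k < 273, ∃ c : K16, c ≠ 0 ∧ v = c • normVec k := by
  by_cases h0 : v 0 = 0
  · by_cases h1 : v 1 = 0
    · have h2 : v 2 ≠ 0 := fun h => hv (funext fun i => by fin_cases i <;> simpa)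
      refine ⟨272, by norm_num, v 2, h2, funext fun i => ?_⟩
      rw [normVec_bot]
      fin_cases i <;> simp [h0, h1]
    · refine ⟨256 + ((v 1)⁻¹ * v 2).code.val, by omega, v 1, h1, ?_⟩
      rw [normVec_mid]
      funext i
      fin_cases i <;> simp [h0, h1]
  · refine ⟨16 * ((v 0)⁻¹ * v 1).code.val + ((v 0)⁻¹ * v 2).code.val, by omega, v 0, h0, ?_⟩
    rw [normVec_top]
    funext i
    fin_cases i <;> simp [h0]

theorem pt_ne_zero (i : Fin 65) : pt i ≠ 0 := fun h => by
  rcases pt_lead i with h' | ⟨-, h'⟩ | ⟨-, -, h'⟩ <;> simp [h] at h'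

theorem lead_scalar {u v : Fin 3 → K16} {c : K16} (hu : Lead u) (hv : Lead v) (h0 : u 0 = c * v 0)
    (h1 : u 1 = c * v 1) (h2 : u 2 = c * v 2) : c = 1 := by
  revert hu hv h0 h1 h2
  unfold Lead
  generalize u 0 = a, u 1 = a', u 2 = a'', v 0 = b, v 1 = b', v 2 = b''
  rintro (rfl | ⟨rfl, rfl⟩ | ⟨rfl, rfl, rfl⟩) (rfl | ⟨rfl, rfl⟩ | ⟨rfl, rfl, rfl⟩) h0 h1 h2
  all_goals first
    | (rw [mul_one] at h0; exact h0.symm)
    | (rw [mul_one] at h1; exact h1.symm)
    | (rw [mul_one] at h2; exact h2.symm)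
    | (rw [mul_zero] at h0; exact absurd h0 one_ne_zero)
    | (rw [mul_zero] at h1; exact absurd h1 one_ne_zero)
    | (rw [mul_zero] at h2; exact absurd h2 one_ne_zero)
    | (rw [mul_one] at h0; subst h0; rw [zero_mul] at h1; exact absurd h1 one_ne_zero)
    | (rw [mul_one] at h0; subst h0; rw [zero_mul] at h2; exact absurd h2 one_ne_zero)
    | (rw [mul_one] at h1; subst h1; rw [zero_mul] at h2; exact absurd h2 one_ne_zero)

theorem pt_smul_inj {i j : Fin 65} {c : K16} (h : pt i = c • pt j) : i = j := by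
  have h0 := congrFun h 0
  have h1 := congrFun h 1
  have h2 := congrFun h 2
  simp only [Pi.smul_apply, smul_eq_mul] at h0 h1 h2
  have hc : c = 1 := lead_scalar (pt_lead i) (pt_lead j) h0 h1 h2
  rw [hc, one_smul] at h
  exact pt_inj i j h

theorem exists_pt (v : Fin 3 → K16) (hv : v ≠ 0) (hiso : hb v v = 0) :
    ∃ i, ∃ c : K16, v = c • pt i := by
  obtain ⟨k, hk, c, hc, rfl⟩ := normalise v hv
  rw [hb_smul_left, hb_smul_right, mul_eq_zero, mul_eq_zero] at hiso
  have hq : q4 c ≠ 0 := by simp [q4, hc]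
  obtain h | h | h := hiso
  · exact absurd h hc
  · exact absurd h hq
  · obtain ⟨i, hi, rfl⟩ := List.getElem_of_mem (iso_mem k hk h)
    refine ⟨⟨i, ptList_length ▸ hi⟩, c, ?_⟩
    rw [pt, List.getD_eq_getElem ptList 0 hi]

theorem mulVec_ne (g : G) {v : Fin 3 → K16} (hv : v ≠ 0) : g.1.1 *ᵥ v ≠ 0 := fun h => by
  have h' := congrArg (toMat g⁻¹ *ᵥ ·) h
  simp only [Matrix.mulVec_zero] at h'
  rw [show g.1.1 = toMat g from rfl, Matrix.mulVec_mulVec, ← map_mul, inv_mul_cancel, map_one,
    Matrix.one_mulVec] at h'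
  exact hv h'

theorem exists_perm (g : G) (i : Fin 65) : ∃ j, ∃ c : K16, g.1.1 *ᵥ pt i = c • pt j :=
  exists_pt _ (mulVec_ne g (pt_ne_zero i)) (by rw [hb_mulVec, pt_iso])

/-- The action on the points, as functions. -/
noncomputable def sigma (g : G) (i : Fin 65) : Fin 65 := (exists_perm g i).choose

/-- The scalar. -/
noncomputable def sc (g : G) (i : Fin 65) : K16 := (exists_perm g i).choose_spec.choose

theorem sigma_spec (g : G) (i : Fin 65) : g.1.1 *ᵥ pt i = sc g i • pt (sigma g i) :=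
  (exists_perm g i).choose_spec.choose_spec

theorem sc_ne (g : G) (i : Fin 65) : sc g i ≠ 0 := fun h => by
  have h' := sigma_spec g i
  rw [h, zero_smul] at h'
  exact mulVec_ne g (pt_ne_zero i) h'

theorem sigma_eq {g : G} {i j : Fin 65} {c : K16} (hc : c ≠ 0)
    (h : g.1.1 *ᵥ pt i = c • pt j) : sigma g i = j := by
  refine (pt_smul_inj (c := (sc g i)⁻¹ * c) ?_)
  rw [mul_smul, ← h, sigma_spec, smul_smul, inv_mul_cancel₀ (sc_ne g i), one_smul]

theorem sigma_one (i : Fin 65) : sigma 1 i = i :=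
  sigma_eq one_ne_zero (by simp [Matrix.one_mulVec])

theorem sigma_mul (g h : G) (i : Fin 65) : sigma (g * h) i = sigma g (sigma h i) := by
  refine sigma_eq (c := sc h i * sc g (sigma h i)) (mul_ne_zero (sc_ne h i) (sc_ne g _)) ?_
  rw [show (g * h).1.1 = g.1.1 * h.1.1 from rfl, ← Matrix.mulVec_mulVec, sigma_spec h i,
    Matrix.mulVec_smul, sigma_spec g, smul_smul]

/-- The action on pairs of points. -/
noncomputable def pairPerm : G →* Equiv.Perm (Fin 65 × Fin 65) where
  toFun g :=
    { toFun := fun p => (sigma g p.1, sigma g p.2)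
      invFun := fun p => (sigma g⁻¹ p.1, sigma g⁻¹ p.2)
      left_inv := fun p => by simp [← sigma_mul, sigma_one]
      right_inv := fun p => by simp [← sigma_mul, sigma_one] }
  map_one' := by ext p : 1; simp [sigma_one]
  map_mul' g h := by ext p : 1; simp [sigma_mul]

/-- The functions with vanishing block sums. -/
def blockKer : Submodule (ZMod 5) (Fin 65 → ZMod 5) where
  carrier := {f | ∀ n : Fin 3 → K16, hb n n ≠ 0 → ∑ i, (if hb (pt i) n = 0 then f i else 0) = 0}
  add_mem' := by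
    intro a b ha hb' n hn
    have : ∀ i, (if hb (pt i) n = 0 then (a + b) i else 0) =
        (if hb (pt i) n = 0 then a i else 0) + (if hb (pt i) n = 0 then b i else 0) := fun i => by
      split_ifs <;> simp
    rw [Finset.sum_congr rfl fun i _ => this i, Finset.sum_add_distrib, ha n hn, hb' n hn, add_zero]
  zero_mem' := by intro n hn; simp
  smul_mem' := by
    intro c a ha n hn
    have : ∀ i, (if hb (pt i) n = 0 then (c • a) i else 0) =
        c * (if hb (pt i) n = 0 then a i else 0) := fun i => by split_ifs <;> simp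
    rw [Finset.sum_congr rfl fun i _ => this i, ← Finset.mul_sum, ha n hn, mul_zero]

theorem mem_blockKer_comp {f : Fin 65 → ZMod 5} (hf : f ∈ blockKer) (g : G) :
    (fun i => f (sigma g i)) ∈ blockKer := by
  intro n hn
  have hn' : hb (g.1.1 *ᵥ n) (g.1.1 *ᵥ n) ≠ 0 := by rwa [hb_mulVec]
  refine Eq.trans ?_ (hf _ hn')
  refine Fintype.sum_equiv
    { toFun := sigma g, invFun := sigma g⁻¹,
      left_inv := fun i => by simp [← sigma_mul, sigma_one],
      right_inv := fun i => by simp [← sigma_mul, sigma_one] } _ _ fun i => ?_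
  have key : hb (pt (sigma g i)) (g.1.1 *ᵥ n) = 0 ↔ hb (pt i) n = 0 := by
    rw [← hb_mulVec g (pt i) n, sigma_spec, hb_smul_left, mul_eq_zero]
    simp [sc_ne g i]
  simp only [Equiv.coe_fn_mk, key]

/-- The differences of a function. -/
def diffMap : (Fin 65 → ZMod 5) →ₗ[ZMod 5] (Fin 65 × Fin 65 → ZMod 5) where
  toFun f p := f p.1 - f p.2
  map_add' a b := by ext p; simp; ring
  map_smul' c a := by ext p; simp [mul_sub]

/-- The module: differences of the functions with vanishing block sums. -/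
def diffMod : Submodule (ZMod 5) (Fin 65 × Fin 65 → ZMod 5) :=
  blockKer.map diffMap

theorem mem_diffMod_comp {w : Fin 65 × Fin 65 → ZMod 5} (hw : w ∈ diffMod) (g : G) :
    (fun p => w (pairPerm g p)) ∈ diffMod := by
  obtain ⟨f, hf, rfl⟩ := Submodule.mem_map.1 hw
  exact Submodule.mem_map.2 ⟨_, mem_blockKer_comp hf g, rfl⟩

/-- The action on the module, as an additive automorphism. -/
noncomputable def actW (g : G) : diffMod ≃+ diffMod where
  toFun w := ⟨fun p => w.1 (pairPerm g⁻¹ p), mem_diffMod_comp w.2 _⟩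
  invFun w := ⟨fun p => w.1 (pairPerm g p), mem_diffMod_comp w.2 _⟩
  left_inv w := by
    ext p
    show w.1 (pairPerm g⁻¹ (pairPerm g p)) = w.1 p
    rw [← Equiv.Perm.mul_apply, ← map_mul, inv_mul_cancel, map_one]; rfl
  right_inv w := by
    ext p
    show w.1 (pairPerm g (pairPerm g⁻¹ p)) = w.1 p
    rw [← Equiv.Perm.mul_apply, ← map_mul, mul_inv_cancel, map_one]; rfl
  map_add' _ _ := rfl

theorem actW_one (w : diffMod) : actW 1 w = w := by
  ext p
  show w.1 (pairPerm (1 : G)⁻¹ p) = w.1 p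
  rw [inv_one, map_one]; rfl

theorem actW_mul (g h : G) (w : diffMod) : actW (g * h) w = actW g (actW h w) := by
  ext p
  show w.1 (pairPerm (g * h)⁻¹ p) = w.1 (pairPerm h⁻¹ (pairPerm g⁻¹ p))
  rw [_root_.mul_inv_rev, map_mul]; rfl

theorem diffMod_nontrivial : ∃ w : diffMod, w ≠ 0 := by
  obtain ⟨i, j, hij⟩ := fv_ne
  have hf : fv ∈ blockKer := by
    intro n hn
    have hn0 : n ≠ 0 := by rintro rfl; simp [hb] at hn
    obtain ⟨k, hk, c, hc, rfl⟩ := normalise n hn0
    have hq : q4 c ≠ 0 := by simp [q4, hc]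
    simp only [hb_smul_right, mul_eq_zero, hq, false_or]
    exact sum_spec k hk fun h => hn (by rw [hb_smul_left, hb_smul_right, h, mul_zero, mul_zero])
  refine ⟨⟨diffMap fv, Submodule.mem_map_of_mem hf⟩, fun h => hij ?_⟩
  have := congrFun (congrArg Subtype.val h) (i, j)
  simpa [diffMap, sub_eq_zero] using this

theorem sigma_gX (i : Fin 65) : sigma gX i = sx i := by
  obtain ⟨hc, h0, h1, h2⟩ := img_spec i
  refine sigma_eq hc ?_
  show matX *ᵥ pt i = _
  rw [mulVec_eq]
  funext k
  fin_cases k <;> assumption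

theorem fixed_gX (w : diffMod) (h : actW gX w = w) : w = 0 := by
  obtain ⟨f, hf, hfw⟩ := Submodule.mem_map.1 w.2
  have hw : ∀ i j, w.1 (i, j) = f i - f j := fun i j => by rw [← hfw]; rfl
  have hinv : ∀ p, w.1 (pairPerm gX p) = w.1 p := fun p => by
    conv_lhs => rw [← h]
    show w.1 (pairPerm gX⁻¹ (pairPerm gX p)) = w.1 p
    rw [← Equiv.Perm.mul_apply, ← map_mul, inv_mul_cancel, map_one]; rfl
  set c := f (sx 0) - f 0 with hc
  have hstep : ∀ i, f (sx i) = f i + c := fun i => by
    have h' : w.1 (sigma gX i, sigma gX 0) = w.1 (i, 0) := hinv (i, 0)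
    rw [sigma_gX, sigma_gX, hw, hw] at h'
    rw [hc]; linear_combination h'
  have hiter : ∀ (n : ℕ) (i : Fin 65), f (sx^[n] i) = f i + n * c := by
    intro n
    induction n with
    | zero => intro i; simp
    | succ n ih =>
      intro i
      rw [Function.iterate_succ_apply', hstep, ih]; push_cast; ring
  have hc0 : c = 0 := by
    have h13 := hiter 13 0
    rw [(orb_spec 0).2] at h13
    have : ∀ a : ZMod 5, ((13 : ℕ) : ZMod 5) * a = 0 → a = 0 := by decide +kernel
    exact this c (by linear_combination -h13)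
  have horb : ∀ i, f i = f (rep (orb i)) := fun i => by
    conv_lhs => rw [← (orb_spec i).1]
    rw [hiter, hc0, mul_zero, add_zero]
  have heq : ∀ k ∈ selList, ∑ o, (cnt k o : ZMod 5) * f (rep o) = 0 := by
    intro k hk
    refine Eq.trans ?_ (hf (normVec k) (sel_aniso k hk).2)
    rw [← Finset.sum_filter, ← Finset.sum_fiberwise _ orb]
    refine Finset.sum_congr rfl fun o _ => ?_
    rw [Finset.sum_congr rfl (g := fun _ => f (rep o)) fun i hi => by
      rw [Finset.mem_filter] at hi; rw [horb i, hi.2]]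
    rw [Finset.sum_const, nsmul_eq_mul, Finset.filter_filter, cnt]
    congr 2
    refine congrArg Finset.card (Finset.filter_congr fun i _ => and_comm)
  obtain ⟨c0, c2, c3, c4⟩ := cnt_spec
  have e0 := heq 0 (by simp [selList_eq])
  have e2 := heq 2 (by simp [selList_eq])
  have e3 := heq 3 (by simp [selList_eq])
  have e4 := heq 4 (by simp [selList_eq])
  simp [c0, c2, c3, c4, Fin.sum_univ_five] at e0 e2 e3 e4
  obtain ⟨h1, h2, h3, h4⟩ := separate (f (rep 0)) (f (rep 1)) (f (rep 2)) (f (rep 3)) (f (rep 4))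
    e0 e2 e3 e4
  have hall : ∀ o, f (rep o) = f (rep 0) := by
    intro o; fin_cases o <;> first | rfl | assumption
  refine Subtype.ext (funext fun p => ?_)
  rw [show p = (p.1, p.2) from rfl, hw, horb p.1, horb p.2, hall (orb p.1), hall (orb p.2), sub_self]
  rfl

theorem card_G : Nat.card G = 62400 := by
  show Nat.card (Cfsg.SU 3 K16 4) = 62400
  obtain ⟨C⟩ := CfsgLib.Classical.Herm.exists_conj_of_card (F := K16) (q := 4)
    (by rw [K16.card_eq]; norm_num)
  have hGU := CfsgLib.Classical.Herm.card_GU C (n := 3)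
  norm_num [Finset.prod_range_succ, Nat.even_iff, -Nat.card_eq_fintype_card] at hGU
  have hSU := CfsgLib.Classical.Herm.card_SU C (n := 3) (by norm_num)
  rw [hGU] at hSU
  omega

theorem fixed_thirteen (g : G) (hg : orderOf g = 13) (w : diffMod) (h : actW g w = w) : w = 0 := by
  classical
  have : Fact (Nat.Prime 13) := ⟨by norm_num⟩
  have hfac : 13 ^ (Nat.card G).factorization 13 = 13 := by
    rw [card_G, show (62400 : ℕ) = 13 * 4800 from rfl,
      Nat.factorization_mul (by norm_num) (by norm_num), Finsupp.add_apply,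
      Nat.Prime.factorization_self (by norm_num),
      Nat.factorization_eq_zero_of_not_dvd (by norm_num : ¬ 13 ∣ 4800)]
    rfl
  let P : Sylow 13 G := Sylow.ofCard (Subgroup.zpowers g) (by rw [Nat.card_zpowers, hg, hfac])
  let Q : Sylow 13 G := Sylow.ofCard (Subgroup.zpowers gX) (by rw [Nat.card_zpowers, orderOf_gX, hfac])
  obtain ⟨c, hc⟩ := MulAction.exists_smul_eq G P Q
  have hmem : gX ∈ (c • P : Sylow 13 G).1 := by rw [hc]; exact Subgroup.mem_zpowers gX
  rw [Sylow.coe_subgroup_smul] at hmem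
  obtain ⟨x, hx, hxe⟩ := hmem
  have hxe' : gX = c * x * c⁻¹ := hxe.symm
  have hfix : actW x w = w := by
    obtain ⟨n, rfl⟩ := mem_powers_iff_mem_zpowers.2 (show x ∈ Subgroup.zpowers g from hx)
    clear hxe hxe' hx
    show actW (g ^ n) w = w
    induction n with
    | zero => rw [pow_zero, actW_one]
    | succ n ih => rw [pow_succ, actW_mul, h, ih]
  have hX : actW gX (actW c w) = actW c w := by
    rw [hxe', actW_mul, actW_mul, ← actW_mul c⁻¹ c, inv_mul_cancel, actW_one, hfix]
  have hz := fixed_gX _ hX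
  have := congrArg (actW c⁻¹) hz
  rwa [← actW_mul, inv_mul_cancel, actW_one, map_zero] at this

end CfsgLib.UThreeFour
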